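import Mathlib
import Cfsg.Agent.H644.KGV.Goals
import Cfsg.Agent.OddOrderCharacters.InducedNormal

/-!
# Eigenvalues of induced characters (helper491, EIG2 of TEAM KGV)

* `IsEig.unique`, `eig_eq` : the multiset of eigenvalues is unique;
* `isEig_ind` : `A` normal in `E`, `E = A⟨t⟩`, `r` the order of `hA`: the eigenvalues of `h` on `Ind φ` are the `r`-th
  roots of the eigenvalues of `t ^ i h ^ r t ^ (-i)` on `φ`, `i < |E : A| / r`;
* `kap_ind`, `kap_ind_lin`, `kap_ind_mem`, `kap_ind_not_mem` : the same for `kap`.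
-/

set_option autoImplicit false
set_option linter.unusedSectionVars false

namespace Cfsg.Agent.H491.KGV

open Cfsg Cfsg.Agent.H644.KGV Finset Polynomial
open Cfsg.Agent.OddOrderCharacters.InducedNormal (indFun_mem indFun_of_not_mem)

universe u

/-! ### Uniqueness -/

/-- a multiset of complex numbers is determined by its power sums -/
theorem eq_of_powerSums {M M' : Multiset ℂ}
    (h : ∀ i : ℕ, (M.map fun z => z ^ i).sum = (M'.map fun z => z ^ i).sum) : M = M' := by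
  classical
  have hf : ∀ z : ℂ, ∃ f : Multiplicative ℕ →* ℂ, ∀ i : ℕ, f (Multiplicative.ofAdd i) = z ^ i := fun z =>
    ⟨(powersHom ℂ z), fun i => by simp⟩
  choose f hf using hf
  have hinj : Function.Injective f := by
    intro a b hab
    have h1 := hf a 1
    rw [hab, hf b 1, pow_one, pow_one] at h1
    exact h1.symm
  have hli := (linearIndependent_monoidHom (Multiplicative ℕ) ℂ).comp f hinj
  rw [linearIndependent_iff'] at hli
  have key := hli (M.toFinset ∪ M'.toFinset) (fun z => (M.count z : ℂ) - (M'.count z : ℂ)) (by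
    funext i
    obtain ⟨j, hj⟩ : ∃ j : ℕ, i = Multiplicative.ofAdd j := ⟨Multiplicative.toAdd i, rfl⟩
    rw [hj, Finset.sum_apply]
    have h1 : ∀ N : Multiset ℂ, N.toFinset ⊆ M.toFinset ∪ M'.toFinset →
        (N.map fun z => z ^ j).sum = ∑ z ∈ M.toFinset ∪ M'.toFinset, (N.count z : ℂ) * z ^ j := by
      intro N hN
      rw [Finset.sum_multiset_map_count]
      rw [← Finset.sum_subset hN]
      · refine Finset.sum_congr rfl fun z _ => ?_
        rw [nsmul_eq_mul]
      · intro z _ hz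
        rw [Multiset.mem_toFinset, ← Multiset.count_pos, Nat.pos_iff_ne_zero, not_not] at hz
        rw [hz, Nat.cast_zero, zero_mul]
    have h2 := h j
    rw [h1 M Finset.subset_union_left, h1 M' Finset.subset_union_right, ← sub_eq_zero, ← Finset.sum_sub_distrib] at h2
    rw [Pi.zero_apply, ← h2]
    refine Finset.sum_congr rfl fun z _ => ?_
    rw [Pi.smul_apply, smul_eq_mul, Function.comp_apply, hf, sub_mul])
  ext z
  by_cases hz : z ∈ M.toFinset ∪ M'.toFinset
  · exact_mod_cast sub_eq_zero.1 (key z hz)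
  · rw [Finset.mem_union, not_or, Multiset.mem_toFinset, Multiset.mem_toFinset] at hz
    rw [Multiset.count_eq_zero_of_notMem hz.1, Multiset.count_eq_zero_of_notMem hz.2]

theorem isEig_unique {G : Type*} [Group G] {χ : G → ℂ} {g : G} {M M' : Multiset ℂ} (h : IsEig χ g M)
    (h' : IsEig χ g M') : M = M' :=
  eq_of_powerSums fun i => (h.2 i).symm.trans (h'.2 i)

theorem eig_eq {G : Type*} [Group G] {χ : G → ℂ} {g : G} {M : Multiset ℂ} (h : IsEig χ g M) : eig χ g = M := by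
  have hex : ∃ M, IsEig χ g M := ⟨M, h⟩
  unfold eig
  rw [dif_pos hex]
  exact isEig_unique hex.choose_spec h

theorem isEig_eig {G : Type*} [Group G] {χ : G → ℂ} {g : G} {M : Multiset ℂ} (h : IsEig χ g M) :
    IsEig χ g (eig χ g) := by
  rw [eig_eq h]; exact h

/-- the eigenvalue of a linear character -/
theorem isEig_lin {G : Type*} [Group G] (lam : G →* ℂˣ) (g : G) : IsEig (fun x => (lam x : ℂ)) g {(lam g : ℂ)} := by
  constructor
  · intro z hz
    rw [Multiset.mem_singleton.1 hz, ← Units.val_pow_eq_pow_val, ← map_pow, pow_orderOf_eq_one, map_one, Units.val_one]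
  · intro i
    rw [Multiset.map_singleton, Multiset.sum_singleton]
    show ((lam (g ^ i) : ℂˣ) : ℂ) = _
    rw [map_pow, Units.val_pow_eq_pow_val]

theorem eig_lin {G : Type*} [Group G] (lam : G →* ℂˣ) (g : G) : eig (fun x => (lam x : ℂ)) g = {(lam g : ℂ)} :=
  eig_eq (isEig_lin lam g)

/-! ### Roots -/

/-- power sums of the `r`-th roots of `b` -/
theorem sum_roots {r : ℕ} (hr : 0 < r) {b : ℂ} (hb : b ≠ 0) (j : ℕ) :
    ((nthRootsFinset r b).val.map fun z => z ^ j).sum = if r ∣ j then (r : ℂ) * b ^ (j / r) else 0 := by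
  classical
  obtain ⟨ζ, hζ⟩ : ∃ ζ : ℂ, IsPrimitiveRoot ζ r := ⟨_, Complex.isPrimitiveRoot_exp r hr.ne'⟩
  obtain ⟨α, hα⟩ := IsAlgClosed.exists_pow_nat_eq b hr
  have h1 : (nthRootsFinset r b).val = nthRoots r b := by
    rw [nthRootsFinset_def, Multiset.toFinset_val, Multiset.dedup_eq_self]
    exact hζ.nthRoots_nodup hb
  rw [h1, hζ.nthRoots_eq hα, Multiset.map_map]
  have h2 : (Multiset.map ((fun z => z ^ j) ∘ fun x => ζ ^ x * α) (Multiset.range r)).sum =
      ∑ i ∈ range r, (ζ ^ j) ^ i * α ^ j := by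
    rw [Finset.sum]
    refine congrArg Multiset.sum (Multiset.map_congr rfl fun i _ => ?_)
    rw [Function.comp_apply, mul_pow, ← pow_mul, ← pow_mul, mul_comm]
    ring
  rw [h2, ← Finset.sum_mul]
  by_cases hd : r ∣ j
  · rw [if_pos hd]
    obtain ⟨k, rfl⟩ := hd
    rw [pow_mul ζ, hζ.pow_eq_one, one_pow]
    simp only [one_pow, sum_const, card_range, nsmul_eq_mul, mul_one]
    rw [Nat.mul_div_cancel_left k hr, pow_mul, hα]
  · rw [if_neg hd]
    have h3 : ζ ^ j ≠ 1 := fun h => hd ((hζ.pow_eq_one_iff_dvd j).1 h)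
    have h4 : (ζ ^ j) ^ r = 1 := by rw [← pow_mul, mul_comm, pow_mul, hζ.pow_eq_one, one_pow]
    have h5 := mul_neg_geom_sum (ζ ^ j) r
    rw [h4, sub_self] at h5
    rw [(mul_eq_zero.1 h5).resolve_left (sub_ne_zero.2 h3.symm), zero_mul]

/-! ### Cyclic quotients -/

theorem cyc_mem {C : Type*} [Group C] [Finite C] [IsCyclic C] {a b : C} {n : ℕ} (ha : a ^ n = 1) (hb : orderOf b = n) :
    a ∈ Subgroup.zpowers b := by
  classical
  have hn : 0 < n := by rw [← hb]; exact orderOf_pos b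
  have : Fintype C := Fintype.ofFinite C
  by_contra hcon
  have h1 := IsCyclic.card_pow_eq_one_le (α := C) hn
  have h2 : insert a (Finset.univ.filter fun c : C => c ∈ Subgroup.zpowers b) ⊆
      Finset.univ.filter fun c : C => c ^ n = 1 := by
    intro c hc
    rw [Finset.mem_filter]
    refine ⟨Finset.mem_univ _, ?_⟩
    rcases Finset.mem_insert.1 hc with rfl | hc
    · exact ha
    · obtain ⟨k, rfl⟩ := Subgroup.mem_zpowers_iff.1 (Finset.mem_filter.1 hc).2
      rw [← zpow_natCast, ← zpow_mul, mul_comm, zpow_mul, zpow_natCast, ← hb, pow_orderOf_eq_one, one_zpow]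
  have h3 := Finset.card_le_card h2
  rw [Finset.card_insert_of_notMem (by simpa using hcon)] at h3
  have h4 : (Finset.univ.filter fun c : C => c ∈ Subgroup.zpowers b).card = n := by
    rw [← hb, ← Nat.card_zpowers, Nat.card_eq_fintype_card, Fintype.card_subtype]
  omega

section Cyclic

variable {E : Type u} [Group E] [Fintype E] (A : Subgroup E) [hA : A.Normal] {t : E}

/-- a sum over `E` of a left `A`-invariant function -/
theorem sum_cosets (ht : A ⊔ Subgroup.zpowers t = ⊤) {ψ : E → ℂ} (hψ : ∀ a ∈ A, ∀ x, ψ (a * x) = ψ x) :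
    ∑ x : E, ψ x = (Nat.card A : ℂ) * ∑ i ∈ range A.index, ψ (t ^ i) := by
  classical
  have hidx : A.index ≠ 0 := Subgroup.index_ne_zero_of_finite
  -- the powers of `t` represent the cosets
  have htop : ∀ x : E, ∃ i < A.index, ∃ a ∈ A, x = a * t ^ i := by
    intro x
    have hx : x ∈ A ⊔ Subgroup.zpowers t := by rw [ht]; trivial
    obtain ⟨a, ha, y, hy, rfl⟩ := Subgroup.mem_sup_of_normal_left.1 hx
    obtain ⟨k, rfl⟩ := Subgroup.mem_zpowers_iff.1 hy
    have h1 : t ^ A.index ∈ A := by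
      have h2 : ((t : E) : E ⧸ A) ^ A.index = 1 := by
        rw [Subgroup.index_eq_card]
        exact pow_card_eq_one'
      rw [← QuotientGroup.mk_pow] at h2
      exact (QuotientGroup.eq_one_iff _).1 h2
    refine ⟨(k % (A.index : ℤ)).toNat, ?_, a * (t ^ ((A.index : ℤ) * (k / A.index))), ?_, ?_⟩
    · have h2 := Int.emod_lt_of_pos k (show (0 : ℤ) < A.index by exact_mod_cast Nat.pos_of_ne_zero hidx)
      have h3 := Int.emod_nonneg k (show (A.index : ℤ) ≠ 0 by exact_mod_cast hidx)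
      omega
    · refine A.mul_mem ha ?_
      rw [zpow_mul, zpow_natCast]
      exact A.zpow_mem h1 _
    · have h3 := Int.emod_nonneg k (show (A.index : ℤ) ≠ 0 by exact_mod_cast hidx)
      rw [← zpow_natCast t, Int.toNat_of_nonneg h3, mul_assoc, ← zpow_add, Int.mul_ediv_add_emod]
  let f : Fin A.index × A → E := fun x => (x.2 : E) * t ^ (x.1 : ℕ)
  have hf : Function.Bijective f := by
    have h1 : Function.Surjective f := by
      intro x
      obtain ⟨i, hi, a, ha, rfl⟩ := htop x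
      exact ⟨(⟨i, hi⟩, ⟨a, ha⟩), rfl⟩
    refine h1.bijective_of_nat_card_le ?_
    rw [Nat.card_prod, Nat.card_fin, mul_comm, A.card_mul_index]
  have : Fintype A := Fintype.ofFinite _
  rw [← hf.sum_comp ψ, Fintype.sum_prod_type]
  have h2 : ∀ i : Fin A.index, ∑ a : A, ψ (f (i, a)) = (Nat.card A : ℂ) * ψ (t ^ (i : ℕ)) := by
    intro i
    rw [Finset.sum_congr rfl (fun (a : A) _ => hψ (a : E) a.2 (t ^ (i : ℕ))), Finset.sum_const, Finset.card_univ, nsmul_eq_mul,
      Nat.card_eq_fintype_card]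
  rw [Finset.sum_congr rfl (fun i _ => h2 i), ← Finset.mul_sum, Fin.sum_univ_eq_sum_range (fun i => ψ (t ^ i))]

/-- a periodic sum -/
theorem sum_periodic {g : ℕ → ℂ} {d : ℕ} (hg : ∀ i, g (i + d) = g i) (r : ℕ) :
    ∑ i ∈ range (r * d), g i = (r : ℂ) * ∑ i ∈ range d, g i := by
  have hg' : ∀ n i, g (n * d + i) = g i := by
    intro n
    induction n with
    | zero => intro i; rw [Nat.zero_mul, Nat.zero_add]
    | succ n ih =>
      intro i
      have e : (n + 1) * d + i = (n * d + i) + d := by ring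
      rw [e, hg, ih]
  induction r with
  | zero => simp
  | succ r ih =>
    rw [Nat.succ_mul, Finset.sum_range_add, ih, Finset.sum_congr rfl (fun i _ => hg' r i)]
    push_cast
    ring

/-- the values of an induced class function if `E / A` is cyclic -/
theorem indFun_cyclic (ht : A ⊔ Subgroup.zpowers t = ⊤) {φ : A → ℂ} (hφ : IsClassFunction A φ) {h : E} {r : ℕ}
    (hr : orderOf (h : E ⧸ A) = r) {y : E} (hy : y ∈ A) (hyh : y * h = h * y) :
    indFun A φ y = (r : ℂ) * ∑ i ∈ range (A.index / r), φ ⟨t ^ i * y * (t ^ i)⁻¹, hA.conj_mem y hy _⟩ := by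
  have hr0 : 0 < r := by rw [← hr]; exact orderOf_pos _
  have hrd : r ∣ A.index := by rw [← hr, Subgroup.index_eq_card]; exact orderOf_dvd_natCard _
  obtain ⟨d, hd⟩ := hrd
  let ψ : E → ℂ := fun x => φ ⟨x * y * x⁻¹, hA.conj_mem y hy _⟩
  have hψ1 : ∀ a ∈ A, ∀ x, ψ (a * x) = ψ x := by
    intro a ha x
    have h1 := hφ ⟨x * y * x⁻¹, hA.conj_mem y hy _⟩ ⟨a, ha⟩
    show φ _ = φ _
    rw [← h1]
    congr 1
    apply Subtype.ext
    show a * x * y * (a * x)⁻¹ = a * (x * y * x⁻¹) * a⁻¹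
    group
  have hψ2 : ∀ x, ∀ k : ℕ, ψ (x * h ^ k) = ψ x := by
    intro x k
    have hc : y * h ^ k = h ^ k * y := ((show Commute y h from hyh).pow_right k).eq
    show φ _ = φ _
    congr 1
    apply Subtype.ext
    show x * h ^ k * y * (x * h ^ k)⁻¹ = x * y * x⁻¹
    calc x * h ^ k * y * (x * h ^ k)⁻¹ = x * (h ^ k * y) * (h ^ k)⁻¹ * x⁻¹ := by group
      _ = x * (y * h ^ k) * (h ^ k)⁻¹ * x⁻¹ := by rw [hc]
      _ = x * y * x⁻¹ := by group
  -- `t ^ d` is a power of `h` modulo `A`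
  have hper : ∀ i, ψ (t ^ (i + d)) = ψ (t ^ i) := by
    intro i
    have h1 : ((t : E) : E ⧸ A) ^ d ∈ Subgroup.zpowers (h : E ⧸ A) := by
      have hcyc : IsCyclic (E ⧸ A) := by
        refine ⟨⟨(t : E ⧸ A), fun x => ?_⟩⟩
        obtain ⟨x, rfl⟩ := QuotientGroup.mk_surjective x
        have hx : x ∈ A ⊔ Subgroup.zpowers t := by rw [ht]; trivial
        obtain ⟨a, ha, y, hy, rfl⟩ := Subgroup.mem_sup_of_normal_left.1 hx
        obtain ⟨k, rfl⟩ := Subgroup.mem_zpowers_iff.1 hy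
        refine Subgroup.mem_zpowers_iff.2 ⟨k, ?_⟩
        rw [← QuotientGroup.mk_zpow, QuotientGroup.mk_mul, (QuotientGroup.eq_one_iff a).2 ha, one_mul]
      have hord : orderOf ((h : E) : E ⧸ A) = Nat.card (Subgroup.zpowers (h : E ⧸ A)) := (Nat.card_zpowers _).symm
      -- the elements of exponent `r` form the subgroup generated by `h`
      have h2 : (((t : E) : E ⧸ A) ^ d) ^ r = 1 := by
        rw [← pow_mul, mul_comm, ← hd, Subgroup.index_eq_card]
        exact pow_card_eq_one'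
      exact cyc_mem h2 hr
    obtain ⟨k, hk⟩ := (mem_powers_iff_mem_zpowers.2 h1)
    have hk' : ((h ^ k : E) : E ⧸ A) = ((t ^ d : E) : E ⧸ A) := by
      rw [QuotientGroup.mk_pow, QuotientGroup.mk_pow]; exact hk
    have h3 : t ^ d * (h ^ k)⁻¹ ∈ A := by
      have h4 : (h ^ k)⁻¹ * t ^ d ∈ A := QuotientGroup.eq.1 hk'
      have h5 := hA.conj_mem _ h4 (h ^ k)
      have e : h ^ k * ((h ^ k)⁻¹ * t ^ d) * (h ^ k)⁻¹ = t ^ d * (h ^ k)⁻¹ := by group
      rwa [e] at h5
    have h6 : t ^ i * (t ^ d * (h ^ k)⁻¹) * (t ^ i)⁻¹ ∈ A := hA.conj_mem _ h3 _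
    have e : t ^ (i + d) = (t ^ i * (t ^ d * (h ^ k)⁻¹) * (t ^ i)⁻¹) * (t ^ i * h ^ k) := by
      rw [pow_add]; group
    rw [e, hψ1 _ h6, hψ2]
  have h1 : ∑ x : E, φ ⟨x⁻¹ * y * x, Cfsg.Agent.OddOrderCharacters.InducedNormal.conj_mem' A hy x⟩ = ∑ x : E, ψ x := by
    refine (Equiv.sum_comp (Equiv.inv E) _).symm.trans (Finset.sum_congr rfl fun x _ => ?_)
    show φ _ = φ _
    congr 1
    apply Subtype.ext
    show (x⁻¹)⁻¹ * y * x⁻¹ = x * y * x⁻¹
    rw [inv_inv]
  rw [indFun_mem A φ hy, h1, sum_cosets A ht hψ1, ← mul_assoc,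
    inv_mul_cancel₀ (Cfsg.Agent.OddOrderCharacters.InducedNormal.card_ne_zero A), one_mul, hd,
    Nat.mul_div_cancel_left d hr0]
  exact sum_periodic hper r

/-- **the eigenvalues of an induced character if `E / A` is cyclic** -/
theorem isEig_ind (ht : A ⊔ Subgroup.zpowers t = ⊤) {φ : A → ℂ} (hφ : IsClassFunction A φ)
    (hE : ∀ a : A, IsEig φ a (eig φ a)) {h : E} {r : ℕ} (hr : orderOf (h : E ⧸ A) = r) (hrA : h ^ r ∈ A) :
    IsEig (indFun A φ) h (∑ i ∈ range (A.index / r),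
      (eig φ ⟨t ^ i * h ^ r * (t ^ i)⁻¹, hA.conj_mem _ hrA _⟩).bind fun b => (nthRootsFinset r b).val) := by
  have hr0 : 0 < r := by rw [← hr]; exact orderOf_pos _
  have hro : r ∣ orderOf h := by
    rw [← hr]
    exact orderOf_map_dvd (QuotientGroup.mk' A) h
  obtain ⟨m, hm⟩ := hro
  have hmo : orderOf (h ^ r) = m := by
    rw [orderOf_pow_of_dvd hr0.ne' ⟨m, hm⟩, hm, Nat.mul_div_cancel_left m hr0]
  -- the orders of the conjugates
  have hco : ∀ i, orderOf (⟨t ^ i * h ^ r * (t ^ i)⁻¹, hA.conj_mem _ hrA _⟩ : A) = m := by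
    intro i
    rw [Subgroup.orderOf_mk, ← hmo]
    exact (MulEquiv.orderOf_eq (MulAut.conj (t ^ i)) (h ^ r))
  have hm0 : 0 < m := by rw [← hmo]; exact orderOf_pos _
  -- the eigenvalues are not zero
  have hb0 : ∀ i, ∀ b ∈ eig φ ⟨t ^ i * h ^ r * (t ^ i)⁻¹, hA.conj_mem _ hrA _⟩, b ^ m = 1 ∧ b ≠ 0 := by
    intro i b hb
    have h1 := (hE _).1 b hb
    rw [hco] at h1
    refine ⟨h1, ?_⟩
    rintro rfl
    rw [zero_pow hm0.ne'] at h1
    exact zero_ne_one h1
  constructor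
  · intro z hz
    rw [Multiset.mem_sum] at hz
    obtain ⟨i, -, hz⟩ := hz
    rw [Multiset.mem_bind] at hz
    obtain ⟨b, hb, hz⟩ := hz
    rw [Finset.mem_val, mem_nthRootsFinset hr0] at hz
    rw [hm, pow_mul, hz]
    exact (hb0 i b hb).1
  · intro j
    -- the power sums
    have h1 : ((∑ i ∈ range (A.index / r), (eig φ ⟨t ^ i * h ^ r * (t ^ i)⁻¹, hA.conj_mem _ hrA _⟩).bind
        fun b => (nthRootsFinset r b).val).map fun z => z ^ j).sum =
        ∑ i ∈ range (A.index / r), ((eig φ ⟨t ^ i * h ^ r * (t ^ i)⁻¹, hA.conj_mem _ hrA _⟩).map fun b =>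
          if r ∣ j then (r : ℂ) * b ^ (j / r) else 0).sum := by
      rw [← Multiset.coe_mapAddMonoidHom, map_sum, ← Multiset.coe_sumAddMonoidHom, map_sum]
      refine Finset.sum_congr rfl fun i _ => ?_
      rw [Multiset.coe_sumAddMonoidHom, Multiset.coe_mapAddMonoidHom, Multiset.map_bind, Multiset.sum_bind]
      refine congrArg Multiset.sum (Multiset.map_congr rfl fun b hb => ?_)
      exact sum_roots hr0 (hb0 i b hb).2 j
    rw [h1]
    by_cases hd : r ∣ j
    · obtain ⟨k, rfl⟩ := hd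
      have hy : h ^ (r * k) ∈ A := by rw [pow_mul]; exact A.pow_mem hrA k
      rw [indFun_cyclic A ht hφ hr hy (by rw [← pow_succ, ← pow_succ']), Finset.mul_sum]
      refine Finset.sum_congr rfl fun i _ => ?_
      have h2 := (hE ⟨t ^ i * h ^ r * (t ^ i)⁻¹, hA.conj_mem _ hrA _⟩).2 k
      have h3 : (⟨t ^ i * h ^ r * (t ^ i)⁻¹, hA.conj_mem _ hrA _⟩ : A) ^ k =
          ⟨t ^ i * h ^ (r * k) * (t ^ i)⁻¹, hA.conj_mem _ hy _⟩ := by
        apply Subtype.ext
        rw [Subgroup.coe_pow]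
        show (t ^ i * h ^ r * (t ^ i)⁻¹) ^ k = t ^ i * h ^ (r * k) * (t ^ i)⁻¹
        rw [conj_pow, ← pow_mul]
      rw [h3] at h2
      rw [h2]
      simp only [dvd_mul_right, if_true, Nat.mul_div_cancel_left k hr0]
      rw [Multiset.sum_map_mul_left]
    · have hy : h ^ j ∉ A := by
        intro hy
        apply hd
        rw [← hr]
        apply orderOf_dvd_of_pow_eq_one
        rw [← QuotientGroup.mk_pow]
        exact (QuotientGroup.eq_one_iff _).2 hy
      rw [indFun_of_not_mem A φ hy]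
      simp only [if_neg hd]
      symm
      refine Finset.sum_eq_zero fun i _ => ?_
      rw [Multiset.map_const', Multiset.sum_replicate, smul_zero]

theorem pow_order_mem {h : E} {r : ℕ} (hr : orderOf (h : E ⧸ A) = r) : h ^ r ∈ A := by
  rw [← QuotientGroup.eq_one_iff, QuotientGroup.mk_pow, ← hr, pow_orderOf_eq_one]

/-- **`kap` of an induced character if `E / A` is cyclic** -/
theorem kap_ind (ht : A ⊔ Subgroup.zpowers t = ⊤) {φ : A → ℂ} (hφ : IsClassFunction A φ)
    (hE : ∀ a : A, IsEig φ a (eig φ a)) {h : E} {r : ℕ} (hr : orderOf (h : E ⧸ A) = r) (hrA : h ^ r ∈ A)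
    (F : ℂ → ℂ) :
    kap F (indFun A φ) h = ∏ i ∈ range (A.index / r),
      ((eig φ ⟨t ^ i * h ^ r * (t ^ i)⁻¹, hA.conj_mem _ hrA _⟩).map fun b =>
        ∏ z ∈ nthRootsFinset r b, F z).prod := by
  unfold kap
  rw [eig_eq (isEig_ind A ht hφ hE hr hrA)]
  classical
  induction range (A.index / r) using Finset.induction_on with
  | empty => simp
  | insert a s ha ih =>
    rw [Finset.sum_insert ha, Finset.prod_insert ha, Multiset.map_add, Multiset.prod_add, ih, Multiset.map_bind,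
      Multiset.prod_bind]
    rfl

/-- **`kap` of a character induced from a linear character, `E / A` cyclic** -/
theorem kap_ind_lin (ht : A ⊔ Subgroup.zpowers t = ⊤) (lam : A →* ℂˣ) {h : E} {r : ℕ}
    (hr : orderOf (h : E ⧸ A) = r) (hrA : h ^ r ∈ A) (F : ℂ → ℂ) :
    kap F (indFun A fun x => (lam x : ℂ)) h = ∏ i ∈ range (A.index / r),
      ∏ z ∈ nthRootsFinset r (lam ⟨t ^ i * h ^ r * (t ^ i)⁻¹, hA.conj_mem _ hrA _⟩ : ℂ), F z := by
  rw [kap_ind A ht (φ := fun x => (lam x : ℂ)) (fun g h => by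
      show ((lam (h * g * h⁻¹) : ℂˣ) : ℂ) = lam g
      rw [map_mul, map_mul, map_inv, mul_comm (lam h), mul_assoc, mul_inv_cancel, mul_one])
    (fun a => by rw [eig_lin]; exact isEig_lin lam a) hr hrA F]
  refine Finset.prod_congr rfl fun i _ => ?_
  rw [eig_lin, Multiset.map_singleton, Multiset.prod_singleton]

end Cyclic

/-! ### Prime index -/

section Prime

variable {H : Type u} [Group H] [Fintype H] (N : Subgroup H) [hN : N.Normal] {ℓ : ℕ} {t : H}

theorem sup_eq_top (hℓ : ℓ.Prime) (hi : N.index = ℓ) (ht : t ∉ N) : N ⊔ Subgroup.zpowers t = ⊤ := by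
  by_contra hne
  have h1 : N ≤ N ⊔ Subgroup.zpowers t := le_sup_left
  have h2 := Subgroup.relIndex_mul_index h1
  rw [hi] at h2
  have h3 : (N ⊔ Subgroup.zpowers t).index ∣ ℓ := ⟨_, by rw [mul_comm]; exact h2.symm⟩
  rcases (Nat.dvd_prime hℓ).1 h3 with h4 | h4
  · exact hne (Subgroup.index_eq_one.1 h4)
  · rw [h4] at h2
    have h5 : N.relIndex (N ⊔ Subgroup.zpowers t) = 1 :=
      Nat.eq_of_mul_eq_mul_right hℓ.pos (by rw [h2, one_mul])
    exact ht (Subgroup.relIndex_eq_one.1 h5 (Subgroup.mem_sup_right (Subgroup.mem_zpowers t)))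

/-- **`kap` of an induced character on `N`** -/
theorem kap_ind_mem (hℓ : ℓ.Prime) (hi : N.index = ℓ) (ht : t ∉ N) {φ : N → ℂ} (hφ : IsClassFunction N φ)
    (hE : ∀ a : N, IsEig φ a (eig φ a)) (F : ℂ → ℂ) {n : H} (hn : n ∈ N) :
    kap F (indFun N φ) n = ∏ i ∈ range ℓ, kap F φ ⟨t ^ i * n * (t ^ i)⁻¹, hN.conj_mem _ hn _⟩ := by
  have hr : orderOf (n : H ⧸ N) = 1 := orderOf_eq_one_iff.2 ((QuotientGroup.eq_one_iff n).2 hn)
  have hn1 : n ^ 1 ∈ N := by rw [pow_one]; exact hn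
  rw [kap_ind N (sup_eq_top N hℓ hi ht) hφ hE hr hn1 F, hi, Nat.div_one]
  refine Finset.prod_congr rfl fun i _ => ?_
  unfold kap
  have e : (⟨t ^ i * n ^ 1 * (t ^ i)⁻¹, hN.conj_mem _ hn1 _⟩ : N) = ⟨t ^ i * n * (t ^ i)⁻¹, hN.conj_mem _ hn _⟩ := by
    apply Subtype.ext
    show t ^ i * n ^ 1 * (t ^ i)⁻¹ = t ^ i * n * (t ^ i)⁻¹
    rw [pow_one]
  rw [e]
  refine congrArg Multiset.prod (Multiset.map_congr rfl fun b _ => ?_)
  have h1 : nthRootsFinset 1 b = {b} := by
    ext z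
    rw [mem_nthRootsFinset one_pos, pow_one, Finset.mem_singleton]
  rw [h1, Finset.prod_singleton]

/-- **`kap` of an induced character off `N`** -/
theorem kap_ind_not_mem (hℓ : ℓ.Prime) (hi : N.index = ℓ) {φ : N → ℂ} (hφ : IsClassFunction N φ)
    (hE : ∀ a : N, IsEig φ a (eig φ a)) (F : ℂ → ℂ) {h : H} (hh : h ∉ N) (hhℓ : h ^ ℓ ∈ N) :
    kap F (indFun N φ) h = ((eig φ ⟨h ^ ℓ, hhℓ⟩).map fun b => ∏ z ∈ nthRootsFinset ℓ b, F z).prod := by
  have hr : orderOf (h : H ⧸ N) = ℓ := by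
    have h1 : orderOf (h : H ⧸ N) ∣ ℓ := orderOf_dvd_of_pow_eq_one (by
      rw [← QuotientGroup.mk_pow]; exact (QuotientGroup.eq_one_iff _).2 hhℓ)
    rcases (Nat.dvd_prime hℓ).1 h1 with h2 | h2
    · exact absurd ((QuotientGroup.eq_one_iff h).1 (orderOf_eq_one_iff.1 h2)) hh
    · exact h2
  rw [kap_ind N (sup_eq_top N hℓ hi hh) hφ hE hr hhℓ F, hi, Nat.div_self hℓ.pos, Finset.prod_range_one]
  have e : (⟨h ^ 0 * h ^ ℓ * (h ^ 0)⁻¹, hN.conj_mem _ hhℓ _⟩ : N) = ⟨h ^ ℓ, hhℓ⟩ := by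
    apply Subtype.ext
    show h ^ 0 * h ^ ℓ * (h ^ 0)⁻¹ = h ^ ℓ
    rw [pow_zero, one_mul, inv_one, mul_one]
  rw [e]

end Prime

end Cfsg.Agent.H491.KGV
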